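import Groth.Agent.ProjMor.Segre
import Mathlib

/-!
The Segre map on a product of two projective spaces over a base.
-/

set_option autoImplicit false
set_option backward.isDefEq.respectTransparency false

universe u

open CategoryTheory CategoryTheory.Limits TopologicalSpace AlgebraicGeometry Opposite
open Groth.Agent.QC (res resO res_res res_smul resO_resO app_res)
open TMul (IsGen val homOf val_homOf)
open ProjMor

noncomputable section

namespace Groth.Agent.SegreMap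

variable {X S : Scheme.{u}}

/-- On a chart of `P^N_S`, a map to `P^n_S` with prescribed ratios factors through the chart. -/
theorem exists_factor_of_ratio {n N : ℕ} (i : X ⟶ CohB1.ProjSpaceOver n S)
    (j : X ⟶ CohB1.ProjSpaceOver N S)
    (hij : j ≫ CohB1.ProjSpaceOver.toBase N S = i ≫ CohB1.ProjSpaceOver.toBase n S)
    (a : Fin (n + 1)) (c : Fin (N + 1)) (d : Fin (n + 1) → Fin (N + 1)) (hd : d a = c)
    (hU : j ⁻¹ᵁ (pz N S ⁻¹ᵁ chart N c) ≤ (i ≫ pz n S) ⁻¹ᵁ chart n a)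
    (h : ∀ b, ev (j ≫ pz N S) (chart N c) (j ⁻¹ᵁ (pz N S ⁻¹ᵁ chart N c)) le_rfl (ratio N c (d b)) =
      ev (i ≫ pz n S) (chart n a) (j ⁻¹ᵁ (pz N S ⁻¹ᵁ chart N c)) hU (ratio n a b)) :
    ∃ g : (pz N S ⁻¹ᵁ chart N c).toScheme ⟶ CohB1.ProjSpaceOver n S,
      g ≫ CohB1.ProjSpaceOver.toBase n S = (pz N S ⁻¹ᵁ chart N c).ι ≫ CohB1.ProjSpaceOver.toBase N S ∧
      (j ∣_ (pz N S ⁻¹ᵁ chart N c)) ≫ g = (j ⁻¹ᵁ (pz N S ⁻¹ᵁ chart N c)).ι ≫ i := by
  let W : (CohB1.ProjSpaceOver N S).Opens := pz N S ⁻¹ᵁ chart N c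
  obtain ⟨g0, hg0, hg0e⟩ := exists_hom_chart (Z := W.toScheme) a
    (fun b => W.topIso.inv ((pz N S).app (chart N c) (ratio N c (d b))))
    (by simp only [hd, ratio_self]; rw [map_one, map_one])
  let g : W.toScheme ⟶ CohB1.ProjSpaceOver n S :=
    pullback.lift g0 (W.ι ≫ CohB1.ProjSpaceOver.toBase N S) (specULiftZIsTerminal.hom_ext _ _)
  refine ⟨g, pullback.lift_snd _ _ _, ?_⟩
  change (j ∣_ W) ≫ g = (j ⁻¹ᵁ W).ι ≫ i
  refine pullback.hom_ext ?_ ?_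
  · rw [Category.assoc, pullback.lift_fst, Category.assoc]
    change (j ∣_ W) ≫ g0 = (j ⁻¹ᵁ W).ι ≫ (i ≫ pz n S)
    have h1 : ⊤ ≤ ((j ∣_ W) ≫ g0) ⁻¹ᵁ chart n a := fun z _ => hg0 (x := (j ∣_ W).base z) trivial
    have h2 : ⊤ ≤ ((j ⁻¹ᵁ W).ι ≫ (i ≫ pz n S)) ⁻¹ᵁ chart n a := fun z _ => hU z.2
    have : IsIso (⊤ : (j ⁻¹ᵁ W).toScheme.Opens).ι := inferInstanceAs (IsIso (j ⁻¹ᵁ W).toScheme.topIso.hom)
    refine (cancel_epi (⊤ : (j ⁻¹ᵁ W).toScheme.Opens).ι).mp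
      (ι_comp_eq_of_ev_eq (isAffineOpen_chart n a) _ _ h1 h2 (ringHom_ext_ratio a _ _ fun b => ?_))
    rw [ev_restrict_comp j W g0 _ hg0 h1 (hg0e b), ev_ι_comp _ (i ≫ pz n S) _ hU h2, ← h b]
    refine congrArg (j ⁻¹ᵁ W).topIso.inv ?_
    change ((pz N S).app (chart N c) ≫ j.app W) _ = ((j ≫ pz N S).appLE _ _ _) _
    refine congrArg (fun m => (CommRingCat.Hom.hom m) (ratio N c (d b))) ?_
    exact (Scheme.Hom.appLE_eq_app (j ≫ pz N S)).symm
  · rw [Category.assoc, pullback.lift_snd, Category.assoc]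
    change (j ∣_ W) ≫ W.ι ≫ _ = (j ⁻¹ᵁ W).ι ≫ i ≫ CohB1.ProjSpaceOver.toBase n S
    rw [← Category.assoc, morphismRestrict_ι, Category.assoc, hij]

/-- The coordinate sections generate. -/
theorem exists_mem_genLocus {n : ℕ} (i : X ⟶ CohB1.ProjSpaceOver n S) {N : X.Modules}
    (s : Fin (n + 1) → Γ(N, ⊤))
    (hs : ∀ j, CohB1.genLocus N (homOf (s j)) = (i ≫ pz n S) ⁻¹ᵁ chart n j) (x : X) :
    ∃ a, x ∈ CohB1.genLocus N (homOf (s a)) := by
  obtain ⟨g, hg, hgx⟩ := exists_notMem (genDegOne_projSpace n (ULift.{u} ℤ)) ((i ≫ pz n S).base x)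
  by_contra hn
  push Not at hn
  obtain ⟨c, rfl⟩ := exists_of_mem_one (linForms_mem n (ULift.{u} ℤ)) (adjoin_linForms n (ULift.{u} ℤ)) hg
  refine hgx ?_
  rw [linForms, Fintype.linearCombination_apply]
  refine Submodule.sum_mem _ fun a _ => ?_
  rw [Algebra.smul_def]
  refine Ideal.mul_mem_left _ _ ?_
  by_contra hmem
  exact hn a ((hs a).ge ((ProjectiveSpectrum.mem_basicOpen _ _ _).mpr hmem))

/-- The Segre embedding. -/
theorem exists_segre (S : Scheme.{u}) (n m : ℕ) :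
    ∃ φ : pullback (CohB1.ProjSpaceOver.toBase n S) (CohB1.ProjSpaceOver.toBase m S) ⟶
        CohB1.ProjSpaceOver (n * m + n + m) S,
      IsImmersion φ ∧ φ ≫ CohB1.ProjSpaceOver.toBase (n * m + n + m) S =
        pullback.fst (CohB1.ProjSpaceOver.toBase n S) (CohB1.ProjSpaceOver.toBase m S) ≫
          CohB1.ProjSpaceOver.toBase n S := by
  let p₁ := pullback.fst (CohB1.ProjSpaceOver.toBase n S) (CohB1.ProjSpaceOver.toBase m S)
  let p₂ := pullback.snd (CohB1.ProjSpaceOver.toBase n S) (CohB1.ProjSpaceOver.toBase m S)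
  let f := p₁ ≫ CohB1.ProjSpaceOver.toBase n S
  have hf : p₂ ≫ CohB1.ProjSpaceOver.toBase m S = f := pullback.condition.symm
  let L := (Scheme.Modules.pullback p₁).obj (Twist.twistOver n S 1)
  let L' := (Scheme.Modules.pullback p₂).obj (Twist.twistOver m S 1)
  have hL : PicF.IsInvertible L :=
    PicLoc.isInvertible_pullback p₁ (isInvertible_pull1 (genDegOne_projSpace n (ULift.{u} ℤ)) (pz n S))
  have hL' : PicF.IsInvertible L' :=
    PicLoc.isInvertible_pullback p₂ (isInvertible_pull1 (genDegOne_projSpace m (ULift.{u} ℤ)) (pz m S))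
  obtain ⟨s, hs⟩ := exists_coordinate_sections p₁ (Iso.refl L)
  obtain ⟨t, ht⟩ := exists_coordinate_sections p₂ (Iso.refl L')
  let e : Fin (n * m + n + m + 1) ≃ Fin (n + 1) × Fin (m + 1) :=
    (finCongr (by ring)).trans finProdFinEquiv.symm
  let u : Fin (n * m + n + m + 1) → ProjUP.Γm (CohB1.tensorMod L L') := fun c =>
    TMul.tm (s (e c).1) (t (e c).2)
  have hu : ∀ a b, CohB1.genLocus _ (homOf (u (e.symm (a, b)))) =
      CohB1.genLocus L (homOf (s a)) ⊓ CohB1.genLocus L' (homOf (t b)) := fun a b => by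
    have e1 : homOf (u (e.symm (a, b))) = SecTwist.tmulHom (homOf (s a)) (homOf (t b)) := TMul.hom_ext_val (by
      rw [val_homOf, Groth.Agent.QC.res_self, TMul.val_tmulHom, val_homOf, val_homOf,
        Groth.Agent.QC.res_self, Groth.Agent.QC.res_self]
      simp only [u, Equiv.apply_symm_apply])
    rw [e1, TMul.genLocus_tmulHom hL hL']
  have hcov := fun x => exists_mem_genLocus p₁ s (fun j => (hs j).1) x
  have hcov' := fun x => exists_mem_genLocus p₂ t (fun j => (ht j).1) x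
  obtain ⟨j, hjf, -, hj⟩ := exists_toProjSpaceOver f (TMul.isInvertible_tensorMod hL hL') u
    (generatedBy_of_mem_genLocus u fun x => by
      obtain ⟨a, ha⟩ := hcov x
      obtain ⟨b, hb⟩ := hcov' x
      exact ⟨e.symm (a, b), (hu a b).ge ⟨ha, hb⟩⟩)
  refine ⟨j, isImmersion_of_forall j fun x => ?_, hjf⟩
  obtain ⟨a, ha⟩ := hcov x
  obtain ⟨b, hb⟩ := hcov' x
  let c := e.symm (a, b)
  obtain ⟨hloc, hrat⟩ := hj c
  let W : (CohB1.ProjSpaceOver (n * m + n + m) S).Opens := pz _ S ⁻¹ᵁ chart _ c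
  have hxW : j.base x ∈ W := hloc.ge ((hu a b).ge ⟨ha, hb⟩)
  refine ⟨W, hxW, ?_⟩
  have hU₁ : j ⁻¹ᵁ W ≤ (p₁ ≫ pz n S) ⁻¹ᵁ chart n a :=
    (hloc.le.trans (hu a b).le).trans (inf_le_left.trans (hs a).1.le)
  have hU₂ : j ⁻¹ᵁ W ≤ (p₂ ≫ pz m S) ⁻¹ᵁ chart m b :=
    (hloc.le.trans (hu a b).le).trans (inf_le_right.trans (ht b).1.le)
  have hgen : IsGen (res (CohB1.tensorMod L L') (le_top : j ⁻¹ᵁ W ≤ ⊤) (u c)) := by
    have := (isGen_homOf (u c)).res hloc.le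
    rwa [res_res] at this
  have hc : u c = TMul.tm (s a) (t b) := by simp only [u, c, Equiv.apply_symm_apply]
  have key : ∀ a' b', res (CohB1.tensorMod L L') (le_top : j ⁻¹ᵁ W ≤ ⊤) (u (e.symm (a', b'))) =
      TMul.tm (res L (le_top : j ⁻¹ᵁ W ≤ ⊤) (s a')) (res L' (le_top : j ⁻¹ᵁ W ≤ ⊤) (t b')) := fun a' b' => by
    simp only [u, Equiv.apply_symm_apply, TMul.res_tm]
  have h₁ : ∀ a', ev (j ≫ pz _ S) (chart _ c) (j ⁻¹ᵁ W) le_rfl (ratio _ c (e.symm (a', b))) =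
      ev (p₁ ≫ pz n S) (chart n a) (j ⁻¹ᵁ W) hU₁ (ratio n a a') := fun a' => by
    refine (hgen _ le_rfl).1 ?_
    change _ • res _ le_rfl (res _ le_top (u c)) = _ • res _ le_rfl (res _ le_top (u c))
    rw [Groth.Agent.QC.res_self]
    refine (hrat (e.symm (a', b))).trans ?_
    have e4 := congrArg (res L hU₁) ((hs a).2 a')
    rw [res_smul, res_res, res_res, ev_res] at e4
    rw [key, ← TMul.smul_tm]
    exact (key a' b).trans (congrArg (fun z : Γ(L, j ⁻¹ᵁ W) => TMul.tm z (res L' (le_top : j ⁻¹ᵁ W ≤ ⊤) (t b))) e4.symm)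
  have h₂ : ∀ b', ev (j ≫ pz _ S) (chart _ c) (j ⁻¹ᵁ W) le_rfl (ratio _ c (e.symm (a, b'))) =
      ev (p₂ ≫ pz m S) (chart m b) (j ⁻¹ᵁ W) hU₂ (ratio m b b') := fun b' => by
    refine (hgen _ le_rfl).1 ?_
    change _ • res _ le_rfl (res _ le_top (u c)) = _ • res _ le_rfl (res _ le_top (u c))
    rw [Groth.Agent.QC.res_self]
    refine (hrat (e.symm (a, b'))).trans ?_
    have e4 := congrArg (res L' hU₂) ((ht b).2 b')
    rw [res_smul, res_res, res_res, ev_res] at e4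
    rw [key, ← TMul.tm_smul]
    exact (key a b').trans (congrArg (fun z : Γ(L', j ⁻¹ᵁ W) => TMul.tm (res L (le_top : j ⁻¹ᵁ W ≤ ⊤) (s a)) z) e4.symm)
  obtain ⟨g₁, hg₁, hk₁⟩ := exists_factor_of_ratio p₁ j hjf a c (fun a' => e.symm (a', b)) rfl hU₁ h₁
  obtain ⟨g₂, hg₂, hk₂⟩ := exists_factor_of_ratio p₂ j (hjf.trans hf.symm) b c (fun b' => e.symm (a, b')) rfl hU₂ h₂
  have hk : (j ∣_ W) ≫ pullback.lift g₁ g₂ (hg₁.trans hg₂.symm) = (j ⁻¹ᵁ W).ι := by
    apply pullback.hom_ext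
    · rw [Category.assoc, pullback.lift_fst]; exact hk₁
    · rw [Category.assoc, pullback.lift_snd]; exact hk₂
  have : IsImmersion ((j ∣_ W) ≫ pullback.lift g₁ g₂ (hg₁.trans hg₂.symm)) := by rw [hk]; infer_instance
  exact IsImmersion.of_comp (j ∣_ W) (pullback.lift g₁ g₂ (hg₁.trans hg₂.symm))

end Groth.Agent.SegreMap
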